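import Cfsg.Agent.H756.TS.SmallCore
import Cfsg.Agent.OrdDiv.Table
import Cfsg.Agent.S0000
import Cfsg.Agent.S0814
import Cfsg.Agent.H934.OutB

/-!
# S3414, task E-SMALL (helper756)
-/

set_option autoImplicit false

namespace Cfsg.Agent.H756.TS

open Cfsg Cfsg.Agent.OrdDiv Cfsg.Agent.H873.Tits Cfsg.Agent.H934.OutB

universe u

/-- `Out(PSp₆(2)) = 1` -/
theorem out_sp62 {T : Type u} [Group T] [Finite T] [IsSimpleGroup T] (hna : ¬ IsMulCommutative T) (h : Real (.psp 3 2) T) :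
    Nat.card (Cfsg.Out T) = 1 := by
  obtain ⟨F, _, _, hF, ⟨e⟩⟩ := h
  have := Fact.mk Nat.prime_two
  have h1 := Cfsg.Agent.S0814.result (F := F) 2 1 le_rfl (by rw [hF, pow_one]) 3 (by norm_num) (fun h => by omega)
  have hfin : Finite (PSp 3 F) := Finite.of_equiv T e.toEquiv
  have hs : IsSimpleGroup (PSp 3 F) := e.symm.isSimpleGroup
  have hna' : ¬ IsMulCommutative (PSp 3 F) := by
    intro h
    apply hna
    refine ⟨⟨fun a b => e.injective ?_⟩⟩
    rw [map_mul, map_mul]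
    exact h.is_comm.comm _ _
  rw [card_out_congr e, card_out_of_aut hna' h1]
  rfl

/-- (E-SMALL) -/
theorem st_small : StSmall.{u} :=
  small_of table (fun X _ _ _ => Cfsg.Agent.S0000.result (G := X)) (fun _ _ _ _ hna h => out_sp62 hna h)

end Cfsg.Agent.H756.TS
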