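import Cfsg.Agent.H873.Tits.End
import Cfsg.Agent.OrdDiv.Main

/-!
# S3414, task E-SMALL: the small exceptions, by orders (helper756)
-/

set_option autoImplicit false

namespace Cfsg.Agent.H756.TS

open Cfsg Cfsg.Agent.OrdDiv Cfsg.Agent.H873.Tits

universe u

/-- the `p`-part of `n < p ^ 60` -/
def pp (p n : ℕ) : ℕ := Nat.gcd n (p ^ 60)

theorem pp_eq {n p : ℕ} (hp : p.Prime) (hn : n ≠ 0) (hlt : n < p ^ 60) : pp p n = p ^ n.factorization p := by
  have h1 : p ^ n.factorization p ∣ n := Nat.ordProj_dvd n p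
  have h2 : n.factorization p ≤ 60 := by
    have h3 : p ^ n.factorization p < p ^ 60 := (Nat.le_of_dvd (Nat.pos_of_ne_zero hn) h1).trans_lt hlt
    exact ((Nat.pow_lt_pow_iff_right hp.one_lt).1 h3).le
  obtain ⟨j, hj, he⟩ := (Nat.dvd_prime_pow hp).1 (Nat.gcd_dvd_right n (p ^ 60))
  have h4 : j ≤ n.factorization p := by
    rw [← hp.pow_dvd_iff_le_factorization hn]
    rw [← he]
    exact Nat.gcd_dvd_left _ _
  have h5 : p ^ n.factorization p ∣ p ^ j := by
    rw [← he]
    exact Nat.dvd_gcd h1 (pow_dvd_pow p h2)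
  have h6 : n.factorization p ≤ j := (Nat.pow_dvd_pow_iff_le_right hp.one_lt).1 h5
  rw [pp, he, le_antisymm h4 h6]

/-- the test -/
def flt (c w p t n : ℕ) : Bool :=
  Nat.beq (n % c) 0 && !(Nat.blt n (pp p n ^ 3)) &&
    Nat.ble (2 ^ ((w + pp p n - 1) / pp p n) * (1 + t) ^ 3) (c ^ 3)

theorem flt_true {c w p t n u : ℕ} (hp : p.Prime) (hn : n ≠ 0) (hlt : n < p ^ 60) (hc : c ∣ n)
    (hw : w ≤ u * p ^ n.factorization p) (hu : 2 ^ u * (1 + t) ^ 3 ≤ c ^ 3)
    (hno : ¬ n < p ^ (3 * n.factorization p)) : flt c w p t n = true := by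
  unfold flt
  rw [pp_eq hp hn hlt]
  have hP : 0 < p ^ n.factorization p := pow_pos hp.pos _
  have h1 : Nat.beq (n % c) 0 = true := by
    rw [Nat.beq_eq]
    exact Nat.mod_eq_zero_of_dvd hc
  have h2 : Nat.blt n ((p ^ n.factorization p) ^ 3) = false := by
    rw [← Bool.not_eq_true, Nat.blt_eq, ← pow_mul, mul_comm]
    exact hno
  have h3 : (w + p ^ n.factorization p - 1) / p ^ n.factorization p ≤ u := by
    rw [Nat.div_le_iff_le_mul_add_pred hP]
    rw [mul_comm]
    omega
  have h4 : Nat.ble (2 ^ ((w + p ^ n.factorization p - 1) / p ^ n.factorization p) * (1 + t) ^ 3) (c ^ 3) = true := by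
    rw [Nat.ble_eq]
    refine le_trans ?_ hu
    exact Nat.mul_le_mul_right _ (Nat.pow_le_pow_right (by norm_num) h3)
  rw [h1, h2, h4]
  rfl

variable (tab : OrderTable.{u}) (hkn : ∀ (X : Type u) [Group X] [Finite X] [IsSimpleGroup X], IsKnownSimple' X)

include tab hkn in
theorem key {T : Type u} [Group T] [Finite T] [IsSimpleGroup T] (hna : ¬ IsMulCommutative T) {l : List (ℕ × ℕ)} {N : ℕ}
    (hv : valid l N = true) {c w p t : ℕ} (hp : p.Prime) (hN0 : 0 < N) (hN : N < p ^ 60) {exc : List Grp}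
    (hf : (cands l N).filter (fun g => flt c w p t (ordN g)) = exc) {u : ℕ} (h1 : c ∣ Nat.card T) (h2 : Nat.card T ∣ N)
    (h3 : w ≤ u * p ^ (Nat.card T).factorization p) (h4 : 2 ^ u * (1 + t) ^ 3 ≤ c ^ 3) :
    Nat.card T < p ^ (3 * (Nat.card T).factorization p) ∨ ∃ g ∈ exc, Real g T ∧ Nat.card T = ordN g := by
  by_cases hno : Nat.card T < p ^ (3 * (Nat.card T).factorization p)
  · exact Or.inl hno
  · right
    have hna' : ¬ ∀ a b : T, a * b = b * a := fun h => hna ⟨⟨h⟩⟩
    obtain ⟨g, hg, hr, hc⟩ := exists_good tab (hkn T) hna' hv h2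
    have h5 := flt_true hp Nat.card_pos.ne' ((Nat.le_of_dvd hN0 h2).trans_lt hN) h1 h3 h4 hno
    refine ⟨g, ?_, hr, hc⟩
    rw [← hf]
    exact List.mem_filter.2 ⟨hg, by rw [← hc]; exact h5⟩

theorem v1 : valid [(2, 4), (3, 2), (5, 1)] 720 = true := by decide +kernel
theorem v2 : valid [(2, 7), (3, 4), (5, 1)] 51840 = true := by decide +kernel
theorem v3 : valid [(2, 10), (3, 2), (5, 2), (17, 1)] 3916800 = true := by decide +kernel
theorem v4 : valid [(2, 12), (3, 5), (5, 1), (7, 1), (11, 1)] 383201280 = true := by decide +kernel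
theorem v5 : valid [(2, 15), (3, 2), (5, 3), (13, 1), (17, 1)] 8146944000 = true := by decide +kernel
theorem v6 : valid [(2, 14), (3, 6), (5, 1), (7, 2), (13, 1)] 38041436160 = true := by decide +kernel
theorem v7 : valid [(2, 21), (3, 9), (5, 2), (7, 2), (13, 1), (19, 1)] 12489764320051200 = true := by decide +kernel
theorem v8 : valid [(2, 6), (3, 3), (7, 1)] 12096 = true := by decide +kernel
theorem v9 : valid [(2, 13), (3, 5), (7, 2), (13, 1)] 1268047872 = true := by decide +kernel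
theorem v10 : valid [(2, 13), (3, 4), (5, 2), (13, 1)] 215654400 = true := by decide +kernel
theorem v12 : valid [(2, 10), (3, 6), (5, 1), (7, 1)] 26127360 = true := by decide +kernel

theorem f1 : (cands [(2, 4), (3, 2), (5, 1)] 720).filter (fun g => flt 45 16 2 2 (ordN g)) = [] := by decide +kernel
theorem f2 : (cands [(2, 7), (3, 4), (5, 1)] 51840).filter (fun g => flt 135 64 2 4 (ordN g)) = [] := by decide +kernel
theorem f3 : (cands [(2, 10), (3, 2), (5, 2), (17, 1)] 3916800).filter (fun g => flt 425 256 2 4 (ordN g)) = [] := by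
  decide +kernel
theorem f4 : (cands [(2, 12), (3, 5), (5, 1), (7, 1), (11, 1)] 383201280).filter
    (fun g => flt 1485 1024 2 8 (ordN g)) = [] := by decide +kernel
theorem f5 : (cands [(2, 15), (3, 2), (5, 3), (13, 1), (17, 1)] 8146944000).filter
    (fun g => flt 5525 4096 2 16 (ordN g)) = [] := by decide +kernel
theorem f6 : (cands [(2, 14), (3, 6), (5, 1), (7, 2), (13, 1)] 38041436160).filter
    (fun g => flt 5265 4096 2 8 (ordN g)) = [] := by decide +kernel
theorem f7 : (cands [(2, 21), (3, 9), (5, 2), (7, 2), (13, 1), (19, 1)] 12489764320051200).filter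
    (fun g => flt 300105 262144 2 64 (ordN g)) = [] := by decide +kernel
theorem f8 : (cands [(2, 6), (3, 3), (7, 1)] 12096).filter (fun g => flt 189 64 2 2 (ordN g)) = [] := by decide +kernel
theorem f9 : (cands [(2, 13), (3, 5), (7, 2), (13, 1)] 1268047872).filter
    (fun g => flt 7371 4096 2 8 (ordN g)) = [] := by decide +kernel
theorem f10 : (cands [(2, 13), (3, 4), (5, 2), (13, 1)] 215654400).filter
    (fun g => flt 8775 4096 2 4 (ordN g)) = [] := by decide +kernel
theorem f11 : (cands [(2, 7), (3, 4), (5, 1)] 51840).filter (fun g => flt 160 81 3 3 (ordN g)) = [] := by decide +kernel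
theorem f12 : (cands [(2, 10), (3, 6), (5, 1), (7, 1)] 26127360).filter
    (fun g => flt 1120 729 3 9 (ordN g)) = [.psp 3 2] := by decide +kernel

include tab hkn in
theorem small_of (hout : ∀ (T : Type u) [Group T] [Finite T] [IsSimpleGroup T], ¬ IsMulCommutative T → Real (.psp 3 2) T →
    Nat.card (Cfsg.Out T) = 1) : StSmall.{u} := by
  intro T _ _ _ hna x hx u h1 h2 h3 h4 h5 h6
  have kk := fun {l : List (ℕ × ℕ)} {N : ℕ} (hv : valid l N = true) {c w p t : ℕ} (hp : p.Prime) (hN0 : 0 < N)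
    (hN : N < p ^ 60) {exc : List Grp} (hf : (cands l N).filter (fun g => flt c w p t (ordN g)) = exc) =>
    key tab hkn hna hv hp hN0 hN hf (u := u)
  unfold Cfsg.Agent.H873.Tits.smallList at hx
  simp only [List.mem_cons, List.not_mem_nil, or_false] at hx
  have c1 : ch 4 2 2 = 45 := rfl
  have c2 : ch 4 2 4 = 135 := rfl
  have c3 : ch 4 4 4 = 425 := rfl
  have c4 : ch 4 4 8 = 1485 := rfl
  have c5 : ch 4 4 16 = 5525 := rfl
  have c6 : ch 4 8 8 = 5265 := rfl
  have c7 : ch 4 8 64 = 300105 := rfl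
  have c8 : ch 6 2 2 = 189 := rfl
  have c9 : ch 6 2 8 = 7371 := rfl
  have c10 : ch 8 2 4 = 8775 := rfl
  have c11 : ch 4 3 3 = 160 := rfl
  have c12 : ch 4 3 9 = 1120 := rfl
  rcases hx with rfl | rfl | rfl | rfl | rfl | rfl | rfl | rfl | rfl | rfl | rfl | rfl
  · simp only [c1] at h1 h2 h6
    norm_num at h2 h3
    rcases kk v1 Nat.prime_two (by norm_num) (by norm_num) f1 h1 h2 h3 h6 with h | ⟨g, hg, -⟩
    · exact h
    · simp at hg
  · simp only [c2] at h1 h2 h6
    norm_num at h2 h3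
    rcases kk v2 Nat.prime_two (by norm_num) (by norm_num) f2 h1 h2 h3 h6 with h | ⟨g, hg, -⟩
    · exact h
    · simp at hg
  · simp only [c3] at h1 h2 h6
    norm_num at h2 h3
    rcases kk v3 Nat.prime_two (by norm_num) (by norm_num) f3 h1 h2 h3 h6 with h | ⟨g, hg, -⟩
    · exact h
    · simp at hg
  · simp only [c4] at h1 h2 h6
    norm_num at h2 h3
    rcases kk v4 Nat.prime_two (by norm_num) (by norm_num) f4 h1 h2 h3 h6 with h | ⟨g, hg, -⟩
    · exact h
    · simp at hg
  · simp only [c5] at h1 h2 h6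
    norm_num at h2 h3
    rcases kk v5 Nat.prime_two (by norm_num) (by norm_num) f5 h1 h2 h3 h6 with h | ⟨g, hg, -⟩
    · exact h
    · simp at hg
  · simp only [c6] at h1 h2 h6
    norm_num at h2 h3
    rcases kk v6 Nat.prime_two (by norm_num) (by norm_num) f6 h1 h2 h3 h6 with h | ⟨g, hg, -⟩
    · exact h
    · simp at hg
  · simp only [c7] at h1 h2 h6
    norm_num at h2 h3
    rcases kk v7 Nat.prime_two (by norm_num) (by norm_num) f7 h1 h2 h3 h6 with h | ⟨g, hg, -⟩
    · exact h
    · simp at hg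
  · simp only [c8] at h1 h2 h6
    norm_num at h2 h3
    rcases kk v8 Nat.prime_two (by norm_num) (by norm_num) f8 h1 h2 h3 h6 with h | ⟨g, hg, -⟩
    · exact h
    · simp at hg
  · simp only [c9] at h1 h2 h6
    norm_num at h2 h3
    rcases kk v9 Nat.prime_two (by norm_num) (by norm_num) f9 h1 h2 h3 h6 with h | ⟨g, hg, -⟩
    · exact h
    · simp at hg
  · simp only [c10] at h1 h2 h6
    norm_num at h2 h3
    rcases kk v10 Nat.prime_two (by norm_num) (by norm_num) f10 h1 h2 h3 h6 with h | ⟨g, hg, -⟩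
    · exact h
    · simp at hg
  · simp only [c11] at h1 h2 h6
    norm_num at h2 h3
    rcases kk v2 Nat.prime_three (by norm_num) (by norm_num) f11 h1 h2 h3 h6 with h | ⟨g, hg, -⟩
    · exact h
    · simp at hg
  · simp only [c12] at h1 h2 h6
    norm_num at h2 h3
    rcases kk v12 Nat.prime_three (by norm_num) (by norm_num) f12 h1 h2 h3 h6 with h | ⟨g, hg, hr, hc⟩
    · exact h
    · simp only [List.mem_cons, List.not_mem_nil, or_false] at hg
      subst hg
      exfalso
      rw [hout T hna hr] at h4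
      have hT : Nat.card T ≠ 0 := Nat.card_pos.ne'
      have h7 : 729 ≤ 1 * 3 ^ (Nat.card T).factorization 3 := h3.trans (Nat.mul_le_mul_right _ h4)
      have h8 : 3 ^ 6 ≤ 3 ^ (Nat.card T).factorization 3 := by
        rw [one_mul] at h7
        exact h7
      have h9 : 6 ≤ (Nat.card T).factorization 3 := (Nat.pow_le_pow_iff_right (by norm_num)).1 h8
      have h10 : 3 ^ 6 ∣ Nat.card T := (Nat.prime_three.pow_dvd_iff_le_factorization hT).2 h9
      rw [hc] at h10
      revert h10
      decide +kernel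

end Cfsg.Agent.H756.TS
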